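import Groth.Agent.GenDegree.Basic
import Groth.Agent.SpQS.DegStrat
import Groth.Agent.CycDim.DegBase
import Groth.Agent.CycDim.Chains
import Groth.Agent.CMChart.Ring
import Groth.Agent.CMFlat.Quotient

/-!
# Quasi-finite fibres of a morphism of regular varieties have at most generic degree
-/

set_option autoImplicit false
set_option linter.style.haveILetI false
set_option backward.isDefEq.respectTransparency false

universe u

open CategoryTheory CategoryTheory.Limits AlgebraicGeometry TopologicalSpace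

namespace Groth.Agent.GenDegree

variable {k : Type u} [Field k]

theorem ringKrullDim_stalk_le {Y : Scheme.{u}} (pY : Y ⟶ Spec (CommRingCat.of k))
    [LocallyOfFiniteType pY] [IsIntegral Y] (y : Y) :
    ringKrullDim (Y.presheaf.stalk y) ≤
      ((WeilCoh.natDim Y - WeilCoh.pdim Y y : ℕ) : WithBot ℕ∞) := by
  have hη := (WeilLib.exists_pdim_eq_trd pY (genericPoint Y)).2
  have hy := (WeilLib.exists_pdim_eq_trd pY y).2
  rw [pdim_generic] at hη
  rw [ringKrullDim_stalk_eq_coheight]
  refine WithBot.coe_le_coe.2 ?_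
  refine Order.coheight_le fun p hp => ?_
  obtain ⟨q, hqlast, hqlen⟩ := Order.exists_series_of_le_height y
    (le_of_eq hy.symm : (WeilCoh.pdim Y y : ℕ∞) ≤ Order.height y)
  suffices h : q.length + p.length ≤ WeilCoh.natDim Y by
    rw [hqlen] at h
    exact Nat.cast_le.2 (by omega)
  have := Order.length_le_height (x := genericPoint Y)
    (p := q.smash p (hqlast.trans hp.symm)) (genericPoint_specializes _)
  rw [hη, RelSeries.smash_length] at this
  exact_mod_cast this

theorem le_ringKrullDim_stalk {X : Scheme.{u}} (c : X ⟶ Spec (CommRingCat.of k))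
    [LocallyOfFiniteType c] [IsIntegral X] (n : ℕ) (hn : topologicalKrullDim ↥X = n) (y : X) :
    ((n - WeilCoh.pdim X y : ℕ) : WithBot ℕ∞) ≤ ringKrullDim (X.presheaf.stalk y) := by
  have hηx : genericPoint X ⤳ y := genericPoint_specializes y
  have hδ := CycDeg.isDimFun_dl c
  have hmono : ∀ z : X, y ≤ z → CycDeg.dl X y ≤ CycDeg.dl X z := fun z hz => by
    by_cases hzy : z = y
    · rw [hzy]
    · exact (CycDim.delta_lt hδ (CycDim.lt_of_spec (Scheme.le_iff_specializes.1 hz) hzy)).le
  obtain ⟨h1, -⟩ := CycDim.krullDim_eq hδ (fun z => y ≤ z ∧ z ≤ genericPoint X) (genericPoint X) y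
    ⟨Scheme.le_iff_specializes.2 hηx, le_rfl⟩
    ⟨le_rfl, Scheme.le_iff_specializes.2 hηx⟩ (Scheme.le_iff_specializes.2 hηx)
    (fun z hz => ⟨hz.2, hmono z hz.1⟩) (fun z hz hz' => ⟨hz, hz'⟩)
  have hdη : WeilCoh.pdim X (genericPoint X) = n := by
    rw [WeilCoh.pdim, WeilCoh.natDim, show closure ({genericPoint X} : Set X) = Set.univ from genericPoint_spec X,
      IsHomeomorph.topologicalKrullDim_eq _ (Homeomorph.Set.univ X).isHomeomorph, hn]
    rfl
  have h2 : ((CycDeg.dl X (genericPoint X) - CycDeg.dl X y).toNat : WithBot ℕ∞) =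
      ((n - WeilCoh.pdim X y : ℕ) : WithBot ℕ∞) := by
    simp only [CycDeg.dl, hdη, Int.toNat_sub]
  rw [ringKrullDim_stalk_eq_coheight, Order.coheight_eq_krullDim_Ici, ← h2, ← h1]
  exact Order.krullDim_le_of_strictMono
    (fun z : {z : X // y ≤ z ∧ z ≤ genericPoint X} => (⟨z.1, z.2.1⟩ : Set.Ici y)) fun a b h => h

variable {X Y : Scheme.{u}} [IsIntegral X] [IsIntegral Y] (f : X ⟶ Y)
  (pX : X ⟶ Spec (CommRingCat.of k)) (pY : Y ⟶ Spec (CommRingCat.of k))
  [LocallyOfFiniteType pX] [LocallyOfFiniteType pY]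

include pX pY in
theorem pdim_eq_of_quasiFiniteAt [LocallyOfFiniteType f] (hf : f ≫ pY = pX) (x : X)
    (hx : f.QuasiFiniteAt x) : WeilCoh.pdim Y (f x) = WeilCoh.pdim X x := by
  refine WeilLib.pdim_eq_of_residueDegree_ne_zero pX f pY hf ?_
  letI := (f.residueFieldMap x).hom.toAlgebra
  haveI : Module.Finite (Y.residueField (f x)) (X.residueField x) := SpQS.finite_residueFieldMap f hx
  exact (Module.finrank_pos (R := Y.residueField (f x)) (M := X.residueField x)).ne'

include pX pY in
theorem flat_stalkMap_of_quasiFiniteAt [LocallyOfFiniteType f] (hf : f ≫ pY = pX)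
    (hdim : topologicalKrullDim X = topologicalKrullDim Y) (x : X) (hx : f.QuasiFiniteAt x)
    (hX : IsRegularLocalRing (X.presheaf.stalk x)) (hY : IsRegularLocalRing (Y.presheaf.stalk (f x))) :
    (f.stalkMap x).hom.Flat := by
  haveI := hX; haveI := hY
  haveI : IsLocallyNoetherian X := LocallyOfFiniteType.isLocallyNoetherian pX
  letI := (f.stalkMap x).hom.toAlgebra
  haveI : IsLocalHom (algebraMap (Y.presheaf.stalk (f x)) (X.presheaf.stalk x)) :=
    inferInstanceAs (IsLocalHom (f.stalkMap x).hom)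
  haveI := CMFlat.isCohenMacaulayLocalRing_of_isRegularLocalRing (X.presheaf.stalk x)
  refine CMChart.flat_of_cohenMacaulay (fun J hJ hJm => ?_) ?_
  · let P : Spec (X.presheaf.stalk x) := ⟨J, hJ⟩
    have hz : X.fromSpecStalk x P ⤳ x := by
      have : X.fromSpecStalk x P ∈ Set.range (X.fromSpecStalk x) := ⟨P, rfl⟩
      rwa [Scheme.range_fromSpecStalk] at this
    have hfz : f (X.fromSpecStalk x P) = f x := by
      rw [← Scheme.Hom.comp_apply, ← Scheme.SpecMap_stalkMap_fromSpecStalk, Scheme.Hom.comp_apply,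
        show Spec.map (f.stalkMap x) P = IsLocalRing.closedPoint (Y.presheaf.stalk (f x)) from
          PrimeSpectrum.ext hJm, Scheme.fromSpecStalk_closedPoint]
    have h1 := GenFibre.eq_of_quasiFiniteAt f hx hfz (Or.inl hz)
    have h2 : P = IsLocalRing.closedPoint (X.presheaf.stalk x) :=
      (X.fromSpecStalk x).isEmbedding.injective (h1.trans (Scheme.fromSpecStalk_closedPoint (x := x)).symm)
    exact congrArg PrimeSpectrum.asIdeal h2
  · refine (ringKrullDim_stalk_le pY (f x)).trans ?_
    obtain ⟨n, hn⟩ : ∃ n : ℕ, topologicalKrullDim X = (n : WithBot ℕ∞) := by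
      refine ⟨WeilCoh.pdim X (genericPoint X), ?_⟩
      have h : topologicalKrullDim (closure ({genericPoint X} : Set X)) = topologicalKrullDim X :=
        IsHomeomorph.topologicalKrullDim_eq _ (Homeomorph.isHomeomorph
          ((Homeomorph.setCongr (genericPoint_spec X)).trans (Homeomorph.Set.univ _)))
      rw [← h, BMCoh.topologicalKrullDim_closure_singleton, (WeilLib.exists_pdim_eq_trd pX _).2]
      rfl
    have h1 : WeilCoh.natDim Y = n := by rw [WeilCoh.natDim, ← hdim, hn]; rfl
    rw [h1, pdim_eq_of_quasiFiniteAt f pX pY hf x hx]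
    exact le_ringKrullDim_stalk pX n hn x

theorem fdeg_ι {U : X.Opens} (y : Y) (h : ∀ x, f x = y → x ∈ U)
    [IsFinite (pullback.snd f (Y.fromSpecResidueField y))] :
    SpQS.fdeg (U.ι ≫ f) y = SpQS.fdeg f y := by
  have hrng : Set.range (pullback.fst f (Y.fromSpecResidueField y)) ⊆ Set.range U.ι := by
    rintro _ ⟨p, rfl⟩
    rw [Scheme.Opens.range_ι]
    refine h _ ?_
    rw [← Scheme.Hom.comp_apply, pullback.condition, Scheme.Hom.comp_apply,
      Scheme.fromSpecResidueField_apply]
  let a := IsOpenImmersion.lift U.ι (pullback.fst f (Y.fromSpecResidueField y)) hrng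
  have ha : a ≫ U.ι = pullback.fst f (Y.fromSpecResidueField y) := IsOpenImmersion.lift_fac _ _ _
  have h1 : IsPullback a (pullback.snd f (Y.fromSpecResidueField y)) (U.ι ≫ f) (Y.fromSpecResidueField y) := by
    have hid : IsPullback a (𝟙 _) U.ι (pullback.fst f (Y.fromSpecResidueField y)) := by
      refine ⟨⟨by rw [ha, Category.id_comp]⟩, ⟨PullbackCone.IsLimit.mk _ (fun s => s.snd)
        (fun s => (cancel_mono U.ι).1 (by rw [Category.assoc, ha, s.condition]))
        (fun s => Category.comp_id _) (fun s m h1 h2 => by simpa using h2)⟩⟩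
    simpa using hid.paste_vert (IsPullback.of_hasPullback f (Y.fromSpecResidueField y))
  have e : pullback.snd (U.ι ≫ f) (Y.fromSpecResidueField y) =
      h1.isoPullback.inv ≫ pullback.snd f (Y.fromSpecResidueField y) :=
    (Iso.eq_inv_comp _).2 h1.isoPullback_hom_snd
  rw [SpQS.fdeg, SpQS.fdeg, e, Scheme.Hom.finrank_comp_left_of_isIso]

include pX pY in
theorem finrank_le_generic [QuasiCompact pX] [QuasiCompact pY] [IsSeparated f] [IsDominant f]
    (hf : f ≫ pY = pX) (hdim : topologicalKrullDim X = topologicalKrullDim Y)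
    (hX : ∀ x : X, IsRegularLocalRing (X.presheaf.stalk x))
    (hY : ∀ y : Y, IsRegularLocalRing (Y.presheaf.stalk y))
    (y : Y) (hy : IsFinite (pullback.snd f (Y.fromSpecResidueField y))) :
    (letI := ((Scheme.ΓSpecIso (CommRingCat.of (Y.residueField y))).inv ≫
          (pullback.snd f (Y.fromSpecResidueField y)).appTop).hom.toAlgebra
     Module.finrank (Y.residueField y) Γ(pullback f (Y.fromSpecResidueField y), ⊤)) ≤
      (letI := (f.residueFieldMap (genericPoint X)).hom.toAlgebra
       Module.finrank (Y.residueField (f (genericPoint X))) (X.residueField (genericPoint X))) := by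
  haveI := hy
  haveI : LocallyOfFiniteType f := by
    haveI : LocallyOfFiniteType (f ≫ pY) := by rw [hf]; infer_instance
    exact locallyOfFiniteType_of_comp f pY
  haveI : IsLocallyNoetherian Y := LocallyOfFiniteType.isLocallyNoetherian pY
  haveI : IsLocallyNoetherian X := LocallyOfFiniteType.isLocallyNoetherian pX
  haveI : CompactSpace X := QuasiCompact.compactSpace_of_compactSpace pX
  haveI : AlgebraicGeometry.IsNoetherian X := ⟨⟩
  have hη : f (genericPoint X) = genericPoint Y :=
    ((genericPoint_spec X).image f.continuous).eq (by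
      rw [Set.image_univ, f.denseRange.closure_range]
      exact genericPoint_spec Y)
  have hfib := eq_generic f pX pY hf hη hdim
  obtain ⟨-, U, hU, hUfin⟩ := main f pX pY hf hdim
  have hηU : f (genericPoint X) ∈ U := by
    rw [hη]
    exact ((genericPoint_spec Y).mem_open_set_iff U.2).2 (by
      obtain ⟨⟨z, hz⟩⟩ := hU
      exact ⟨z, trivial, hz⟩)
  haveI hfinη := (hUfin _ hηU).1
  let Q := f.quasiFiniteLocus
  let f' := Q.ι ≫ f
  have hQy : ∀ (y₀ : Y) [IsFinite (pullback.snd f (Y.fromSpecResidueField y₀))], ∀ x, f x = y₀ → x ∈ Q := by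
    intro y₀ _ x hx
    subst hx
    haveI : IsFinite (f.fiberToSpecResidueField (f x)) := by assumption
    haveI : Finite (f.fiber (f x)) := by
      refine Set.finite_univ_iff.1 (((f.fiberToSpecResidueField (f x)).finite_preimage_singleton
        (IsLocalRing.closedPoint _)).subset fun z _ => ?_)
      exact Subsingleton.elim (α := PrimeSpectrum (Y.residueField (f x))) _ _
    exact GenFibre.quasiFiniteAt_of_discrete f inferInstance
  haveI : LocallyQuasiFinite f' := by
    refine locallyQuasiFinite_iff_isDiscrete_preimage_singleton.2 fun y₀ => ?_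
    rw [isDiscrete_iff_forall_exists_isOpen]
    intro x hx
    have hxq : f'.QuasiFiniteAt x := Scheme.Hom.quasiFiniteAt_comp_iff_of_isOpenImmersion.2 x.2
    have h1 := Scheme.Hom.quasiFiniteAt_iff_isOpen_singleton_asFiber.1 hxq
    rw [← (f'.fiberHomeo (f' x)).isOpen_image, Set.image_singleton] at h1
    simp only [Scheme.Hom.asFiber, Homeomorph.apply_symm_apply] at h1
    obtain ⟨O, hO, hOx⟩ := isOpen_induced_iff.1 h1
    refine ⟨O, hO, ?_⟩
    have hx' : f' x = y₀ := hx
    subst hx'
    ext z
    constructor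
    · rintro ⟨h1, h2⟩
      exact congrArg Subtype.val (show (⟨z, h2⟩ : f'.base ⁻¹' {f' x}) = ⟨x, rfl⟩ from
        (Set.ext_iff.1 hOx ⟨z, h2⟩).1 h1)
    · rintro rfl
      exact ⟨(Set.ext_iff.1 hOx ⟨z, rfl⟩).2 rfl, rfl⟩
  haveI : QuasiCompact f' := inferInstance
  haveI : Flat f' := (Flat.iff_flat_stalkMap _).2 fun x => by
    rw [Scheme.Hom.stalkMap_comp, CommRingCat.hom_comp]
    exact RingHom.Flat.comp (flat_stalkMap_of_quasiFiniteAt f pX pY hf hdim _ x.2 (hX _) (hY _))
      (RingHom.Flat.of_bijective (ConcreteCategory.bijective_of_isIso (Q.ι.stalkMap x)))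
  haveI : LocallyOfFinitePresentation f' := inferInstance
  have hFin : SpQS.FinFib f' := fun y₀ =>
    inferInstanceAs (IsFinite (f'.fiberToSpecResidueField y₀))
  have hopen := SpQS.isOpen_le_fdeg f' hFin (SpQS.fdeg f' y)
  have hmem : f (genericPoint X) ∈ {z | SpQS.fdeg f' y ≤ SpQS.fdeg f' z} := by
    rw [hη]
    exact ((genericPoint_spec Y).mem_open_set_iff hopen).2 ⟨y, trivial, le_refl (SpQS.fdeg f' y)⟩
  rw [Set.mem_setOf_eq, fdeg_ι f y (hQy y), fdeg_ι f _ (hQy _)] at hmem
  rw [← finrank_eq_finrank_sections (K := Y.residueField y) _ (IsLocalRing.closedPoint _),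
    ← finrank_generic f hη hfib (IsLocalRing.closedPoint _)]
  exact hmem

end Groth.Agent.GenDegree
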