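import Groth.Agent.WeilLib.Trdeg
import Groth.Agent.GenFibre.Scheme
import Groth.Agent.GenFree.Scheme
import Groth.Agent.SpQS.TrdegQF
import Mathlib

/-!
# The degree of a dominant morphism of varieties of the same dimension
-/

set_option autoImplicit false
set_option linter.style.haveILetI false
set_option backward.isDefEq.respectTransparency false

universe u

open CategoryTheory CategoryTheory.Limits AlgebraicGeometry TopologicalSpace

namespace Groth.Agent.GenDegree

/-- The rank of a finite scheme over a field is the dimension of its global functions. -/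
theorem finrank_eq_finrank_sections {K : Type u} [Field K] {Z : Scheme.{u}}
    (q : Z ⟶ Spec (CommRingCat.of K)) [IsFinite q] (x : Spec (CommRingCat.of K)) :
    letI := ((Scheme.ΓSpecIso (CommRingCat.of K)).inv ≫ q.appTop).hom.toAlgebra
    q.finrank x = Module.finrank K Γ(Z, ⊤) := by
  letI := ((Scheme.ΓSpecIso (CommRingCat.of K)).inv ≫ q.appTop).hom.toAlgebra
  haveI : IsAffine Z := isAffine_of_isAffineHom q
  have hq : Z.toSpecΓ ≫ Spec.map (CommRingCat.ofHom (algebraMap K Γ(Z, ⊤))) = q := by
    show Z.toSpecΓ ≫ Spec.map ((Scheme.ΓSpecIso (CommRingCat.of K)).inv ≫ q.appTop) = q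
    rw [Spec.map_comp, ← Category.assoc, ← Scheme.toSpecΓ_naturality, Category.assoc,
      toSpecΓ_SpecMap_ΓSpecIso_inv, Category.comp_id]
  have hfin : Module.Finite K Γ(Z, ⊤) := by
    have h1 : ((Scheme.ΓSpecIso (CommRingCat.of K)).inv ≫ q.appTop).hom.Finite :=
      q.finite_appTop.comp (RingHom.Finite.of_surjective _
        (ConcreteCategory.bijective_of_isIso (Scheme.ΓSpecIso (CommRingCat.of K)).inv).surjective)
    exact h1
  haveI : IsFinite (Spec.map (CommRingCat.ofHom (algebraMap K Γ(Z, ⊤)))) :=
    (IsFinite.SpecMap_iff _).2 (RingHom.finite_algebraMap.2 hfin)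
  haveI : Flat (Spec.map (CommRingCat.ofHom (algebraMap K Γ(Z, ⊤)))) :=
    Flat.SpecMap_iff.2 (RingHom.flat_algebraMap_iff.2 inferInstance)
  conv_lhs => rw [← hq]
  rw [Scheme.Hom.finrank_comp_left_of_isIso, Scheme.Hom.finrank_SpecMap_algebraMap,
    Module.rankAtStalk_eq_finrank_of_free]
  rfl

variable {X Y : Scheme.{u}} [IsIntegral X] [IsIntegral Y] (f : X ⟶ Y)

/-- The fibre over the generic point, when it is a single point, is the spectrum of the function field. -/
theorem finrank_generic [LocallyOfFiniteType f] (hη : f (genericPoint X) = genericPoint Y)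
    (hfib : ∀ x, f x = f (genericPoint X) → x = genericPoint X)
    [IsFinite (pullback.snd f (Y.fromSpecResidueField (f (genericPoint X))))]
    (x : Spec (Y.residueField (f (genericPoint X)))) :
    letI := (f.residueFieldMap (genericPoint X)).hom.toAlgebra
    (pullback.snd f (Y.fromSpecResidueField (f (genericPoint X)))).finrank x =
      Module.finrank (Y.residueField (f (genericPoint X))) (X.residueField (genericPoint X)) := by
  let ξ := genericPoint X
  let η := f ξ
  letI := (f.residueFieldMap ξ).hom.toAlgebra
  let π := pullback.fst f (Y.fromSpecResidueField η)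
  haveI : IsPreimmersion π := inferInstance
  have hπ : ∀ p, π p = ξ := fun p => hfib _ (by
    rw [← Scheme.Hom.comp_apply, pullback.condition, Scheme.Hom.comp_apply,
      Scheme.fromSpecResidueField_apply])
  haveI : ∀ p, _root_.IsReduced ((pullback f (Y.fromSpecResidueField η)).presheaf.stalk p) := fun p => by
    have hf : IsField (X.presheaf.stalk (π p)) := by
      rw [hπ p]; exact Field.toIsField X.functionField
    letI := hf.toField
    exact isReduced_of_injective (RingEquiv.ofBijective (π.stalkMap p).hom
      ⟨RingHom.injective _, π.stalkMap_surjective p⟩).symm.toRingHom (RingEquiv.injective _)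
  haveI : IsReduced (pullback f (Y.fromSpecResidueField η)) := isReduced_of_isReduced_stalk _
  let s : Spec (X.residueField ξ) ⟶ pullback f (Y.fromSpecResidueField η) :=
    pullback.lift (X.fromSpecResidueField ξ) (Spec.map (f.residueFieldMap ξ))
      (Scheme.Hom.SpecMap_residueFieldMap_fromSpecResidueField f ξ).symm
  haveI : IsPreimmersion (s ≫ π) := by rw [pullback.lift_fst]; infer_instance
  haveI : IsPreimmersion s := IsPreimmersion.of_comp s π
  have hs : ∀ p, p ∈ Set.range s := fun p => by
    obtain ⟨z⟩ : Nonempty (Spec (X.residueField ξ)) := inferInstance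
    refine ⟨z, π.isEmbedding.injective ?_⟩
    rw [hπ, hπ]
  haveI : IsClosedImmersion s := IsClosedImmersion.of_isPreimmersion s (by
    rw [Set.range_eq_univ.2 hs]; exact isClosed_univ)
  haveI : Surjective s := ⟨hs⟩
  haveI : IsIso s := isIso_of_isClosedImmersion_of_surjective s
  let σ := Spec.map (CommRingCat.ofHom (algebraMap (Y.residueField η) (X.residueField ξ)))
  have hsnd : s ≫ pullback.snd f (Y.fromSpecResidueField η) = σ := pullback.lift_snd _ _ _
  have hfinσ : IsFinite σ := by rw [← hsnd]; infer_instance
  haveI := hfinσ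
  haveI : Module.Finite (Y.residueField η) (X.residueField ξ) := (IsFinite.SpecMap_iff _).1 hfinσ
  haveI : Flat σ := Flat.SpecMap_iff.2 (RingHom.flat_algebraMap_iff.2 inferInstance)
  rw [show pullback.snd f (Y.fromSpecResidueField η) = inv s ≫ σ from
    (IsIso.eq_inv_comp s).2 hsnd, Scheme.Hom.finrank_comp_left_of_isIso]
  rw [Scheme.Hom.finrank_SpecMap_algebraMap, Module.rankAtStalk_eq_finrank_of_free]
  rfl

/-- A finite flat morphism over an open: the rank at a point is the rank of the fibre. -/
theorem finrank_restrict {V : Y.Opens} [IsFinite (f ∣_ V)] [Flat (f ∣_ V)] (y : Y) (hy : y ∈ V)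
    (x : Spec (Y.residueField y)) :
    IsFinite (pullback.snd f (Y.fromSpecResidueField y)) ∧
      (pullback.snd f (Y.fromSpecResidueField y)).finrank x = (f ∣_ V).finrank ⟨y, hy⟩ := by
  have hr : Set.range (Y.fromSpecResidueField y) ⊆ Set.range V.ι := by
    rw [Scheme.range_fromSpecResidueField, Scheme.Opens.range_ι]
    exact Set.singleton_subset_iff.2 hy
  let t := IsOpenImmersion.lift V.ι (Y.fromSpecResidueField y) hr
  have ht : t ≫ V.ι = Y.fromSpecResidueField y := IsOpenImmersion.lift_fac _ _ _
  have hsq := (isPullback_morphismRestrict f V).flip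
  have hrng : Set.range (pullback.fst f (Y.fromSpecResidueField y)) ⊆ Set.range (f ⁻¹ᵁ V).ι := by
    rintro _ ⟨p, rfl⟩
    rw [Scheme.Opens.range_ι]
    show f _ ∈ V
    rw [← Scheme.Hom.comp_apply, pullback.condition, Scheme.Hom.comp_apply,
      Scheme.fromSpecResidueField_apply]
    exact hy
  let a := IsOpenImmersion.lift (f ⁻¹ᵁ V).ι (pullback.fst f (Y.fromSpecResidueField y)) hrng
  have ha : a ≫ (f ⁻¹ᵁ V).ι = pullback.fst f (Y.fromSpecResidueField y) :=
    IsOpenImmersion.lift_fac _ _ _
  have h : IsPullback a (pullback.snd f (Y.fromSpecResidueField y)) (f ∣_ V) t := by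
    refine IsPullback.of_right ?_ ?_ hsq
    · rw [ha, ht]; exact .of_hasPullback _ _
    · apply (cancel_mono V.ι).1
      rw [Category.assoc, morphismRestrict_ι, ← Category.assoc, ha, Category.assoc, ht]
      exact pullback.condition
  refine ⟨MorphismProperty.of_isPullback h inferInstance, ?_⟩
  rw [Scheme.Hom.finrank_of_isPullback _ _ _ _ h]
  congr 1
  apply Subtype.ext
  show V.ι (t x) = y
  rw [← Scheme.Hom.comp_apply, ht, Scheme.fromSpecResidueField_apply]

variable {k : Type u} [Field k] (pX : X ⟶ Spec (CommRingCat.of k)) (pY : Y ⟶ Spec (CommRingCat.of k))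
  [LocallyOfFiniteType pX] [LocallyOfFiniteType pY]

theorem pdim_generic (Z : Scheme.{u}) [IsIntegral Z] :
    WeilCoh.pdim Z (genericPoint Z) = WeilCoh.natDim Z := by
  rw [WeilCoh.pdim, WeilCoh.natDim, WeilCoh.natDim]
  congr 2
  refine IsHomeomorph.topologicalKrullDim_eq _ (Homeomorph.isHomeomorph ((Homeomorph.setCongr ?_).trans
    (Homeomorph.Set.univ _)))
  exact genericPoint_spec Z

include pX pY in
/-- The fibre over the generic point is the generic point when the dimensions agree. -/
theorem eq_generic (hf : f ≫ pY = pX) (hη : f (genericPoint X) = genericPoint Y)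
    (hdim : topologicalKrullDim X = topologicalKrullDim Y) (x : X)
    (hx : f x = f (genericPoint X)) : x = genericPoint X := by
  by_contra hne
  have h1 := WeilLib.pdim_lt pX (genericPoint_specializes x) hne
  rw [pdim_generic, WeilCoh.natDim, hdim, ← WeilCoh.natDim, ← pdim_generic, ← hη, ← hx] at h1
  letI := (WeilLib.kStr pY (f x)).toAlgebra
  letI := (WeilLib.kStr pX x).toAlgebra
  let g : Y.residueField (f x) →ₐ[k] X.residueField x :=
    { (f.residueFieldMap x).hom with
      commutes' := fun a => RingHom.congr_fun (WeilLib.kStr_comp pX f pY hf x) a }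
  have h2 := trdeg_le_of_injective g (f.residueFieldMap x).hom.injective
  have e1 := (WeilLib.exists_pdim_eq_trd pX x).1
  have e2 := (WeilLib.exists_pdim_eq_trd pY (f x)).1
  rw [show Algebra.trdeg k (Y.residueField (f x)) = _ from e2,
    show Algebra.trdeg k (X.residueField x) = _ from e1] at h2
  exact absurd h1 (not_lt.2 (by exact_mod_cast h2))

include pX pY in
theorem main [QuasiCompact pX] [IsDominant f] (hf : f ≫ pY = pX)
    (hdim : topologicalKrullDim X = topologicalKrullDim Y) :
    (letI := (f.residueFieldMap (genericPoint X)).hom.toAlgebra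
     Module.Finite (Y.residueField (f (genericPoint X))) (X.residueField (genericPoint X))) ∧
    ∃ U : Y.Opens, Nonempty U ∧ ∀ y ∈ U, IsFinite (pullback.snd f (Y.fromSpecResidueField y)) ∧
      (letI := ((Scheme.ΓSpecIso (CommRingCat.of (Y.residueField y))).inv ≫
          (pullback.snd f (Y.fromSpecResidueField y)).appTop).hom.toAlgebra
       Module.finrank (Y.residueField y) Γ(pullback f (Y.fromSpecResidueField y), ⊤)) =
      (letI := (f.residueFieldMap (genericPoint X)).hom.toAlgebra
       Module.finrank (Y.residueField (f (genericPoint X))) (X.residueField (genericPoint X))) := by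
  haveI : LocallyOfFiniteType f := by
    haveI : LocallyOfFiniteType (f ≫ pY) := by rw [hf]; infer_instance
    exact locallyOfFiniteType_of_comp f pY
  haveI : IsLocallyNoetherian Y := LocallyOfFiniteType.isLocallyNoetherian pY
  haveI : IsLocallyNoetherian X := LocallyOfFiniteType.isLocallyNoetherian pX
  haveI : QuasiCompact (f ≫ pY) := by rw [hf]; infer_instance
  haveI : QuasiCompact f := QuasiCompact.of_comp f pY
  have hη : f (genericPoint X) = genericPoint Y :=
    ((genericPoint_spec X).image f.continuous).eq (by
      rw [Set.image_univ, f.denseRange.closure_range]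
      exact genericPoint_spec Y)
  have hfib := eq_generic f pX pY hf hη hdim
  have hfin : (f.base ⁻¹' {f (genericPoint X)}).Finite :=
    (Set.finite_singleton (genericPoint X)).subset fun x hx => hfib x hx
  have hmax : Unibranch.IsMaxPt (f (genericPoint X)) := fun z hz => by
    rw [hη] at hz ⊢
    exact (hz.antisymm (genericPoint_specializes z)).eq
  obtain ⟨V₁, -, hηV₁, hV₁⟩ := GenFibre.exists_finite_nhd f hmax hfin
  obtain ⟨U, hU, hUflat, hUfp⟩ := GenFree.exists_dense_flat_fp f
  let V := V₁ ⊓ U
  haveI : IsFinite (f ∣_ V) := GenFree.restrict_of_le f inf_le_left hV₁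
  haveI : Flat (f ∣_ V) := GenFree.restrict_of_le f inf_le_right hUflat
  haveI : LocallyOfFinitePresentation (f ∣_ V) := GenFree.restrict_of_le f inf_le_right hUfp
  have hηV : f (genericPoint X) ∈ V := by
    refine ⟨hηV₁, ?_⟩
    rw [hη]
    exact ((genericPoint_spec Y).mem_open_set_iff U.2).2 (by
      simpa using hU.inter_open_nonempty _ isOpen_univ Set.univ_nonempty)
  refine ⟨?_, V, ⟨⟨_, hηV⟩⟩, fun y hy => ?_⟩
  · haveI : Finite (f.fiber (f (genericPoint X))) :=
      (f.fiberHomeo _).toEquiv.finite_iff.mpr hfin.to_subtype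
    exact SpQS.finite_residueFieldMap f (GenFibre.quasiFiniteAt_of_discrete f inferInstance)
  · obtain ⟨hyfin, hy1⟩ := finrank_restrict f y hy (IsLocalRing.closedPoint _)
    haveI := hyfin
    refine ⟨hyfin, ?_⟩
    obtain ⟨hηfin, hη1⟩ := finrank_restrict f (f (genericPoint X)) hηV (IsLocalRing.closedPoint _)
    haveI := hηfin
    rw [← finrank_eq_finrank_sections (K := Y.residueField y) _ (IsLocalRing.closedPoint _), hy1,
      ← finrank_generic f hη hfib (IsLocalRing.closedPoint _), hη1]
    haveI : Nonempty V.toScheme := ⟨⟨_, hηV⟩⟩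
    haveI : IrreducibleSpace V.toScheme := inferInstance
    exact (f ∣_ V).isLocallyConstant_finrank.apply_eq_of_preconnectedSpace _ _

end Groth.Agent.GenDegree
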