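import Groth.Agent.GenDegree.Semicont
import Groth.Agent.FEtRank.Count
import Groth.Prelude.Def_ModelsG
import Mathlib.AlgebraicGeometry.AlgClosed.Basic

/-!
# Fibres of unramified finite covers of regular varieties have degree many points
-/

set_option autoImplicit false
set_option linter.style.haveILetI false
set_option backward.isDefEq.respectTransparency false

universe u

open CategoryTheory CategoryTheory.Limits AlgebraicGeometry TopologicalSpace

namespace Groth.Agent.GenDegree

variable {k : Type u} [Field k]

theorem topologicalKrullDim_eq_natDim {X : Scheme.{u}} (pX : X ⟶ Spec (CommRingCat.of k))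
    [LocallyOfFiniteType pX] [IsIntegral X] :
    topologicalKrullDim X = (WeilCoh.natDim X : WithBot ℕ∞) := by
  have h : topologicalKrullDim (closure ({genericPoint X} : Set X)) = topologicalKrullDim X :=
    IsHomeomorph.topologicalKrullDim_eq _ (Homeomorph.isHomeomorph
      ((Homeomorph.setCongr (genericPoint_spec X)).trans (Homeomorph.Set.univ _)))
  rw [← h, BMCoh.topologicalKrullDim_closure_singleton, (WeilLib.exists_pdim_eq_trd pX _).2, pdim_generic]
  rfl

theorem card_fibre_eq_degree [IsAlgClosed k] {X Y : Scheme.{u}} [IsIntegral X] [IsIntegral Y]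
    (pX : X ⟶ Spec (CommRingCat.of k)) (pY : Y ⟶ Spec (CommRingCat.of k))
    [LocallyOfFiniteType pX] [LocallyOfFiniteType pY]
    (hregX : ∀ x : X, IsRegularLocalRing (X.presheaf.stalk x))
    (hregY : ∀ y : Y, IsRegularLocalRing (Y.presheaf.stalk y))
    (π : Y ⟶ X) (hπ : π ≫ pX = pY) [IsFinite π] [FormallyUnramified π]
    (e : π (genericPoint Y) = genericPoint X) (p : X) (hp : IsClosed ({p} : Set X)) :
    Nat.card {q : Y // π q = p} =
      Models.homDegree (X.presheaf.stalkSpecializes (specializes_of_eq e) ≫ π.stalkMap (genericPoint Y)).hom := by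
  haveI : IsLocallyNoetherian X := LocallyOfFiniteType.isLocallyNoetherian pX
  haveI : IsLocallyNoetherian Y := LocallyOfFiniteType.isLocallyNoetherian pY
  have hqf : ∀ y, π.QuasiFiniteAt y := fun y => π.quasiFiniteAt y
  have hdim : topologicalKrullDim Y = topologicalKrullDim X := by
    rw [topologicalKrullDim_eq_natDim pY, topologicalKrullDim_eq_natDim pX, ← pdim_generic, ← pdim_generic,
      ← e, pdim_eq_of_quasiFiniteAt π pY pX hπ _ (hqf _)]
  haveI : Flat π := (Flat.iff_flat_stalkMap _).2 fun y =>
    flat_stalkMap_of_quasiFiniteAt π pY pX hπ hdim y (hqf y) (hregY _) (hregX _)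
  haveI : LocallyOfFinitePresentation π := inferInstance
  haveI : Etale π := Etale.of_formallyUnramified_of_flat π
  -- the rank is the degree
  have hdeg : ∀ x : X, π.finrank x =
      Models.homDegree (X.presheaf.stalkSpecializes (specializes_of_eq e) ≫ π.stalkMap (genericPoint Y)).hom := by
    intro x
    have h1 : π.finrank x = π.finrank (π (genericPoint Y)) :=
      π.isLocallyConstant_finrank.apply_eq_of_preconnectedSpace _ _
    haveI : IsFinite (pullback.snd π (X.fromSpecResidueField (π (genericPoint Y)))) := inferInstance
    have hfib := eq_generic π pY pX hπ e hdim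
    have h2 := finrank_generic π e hfib (IsLocalRing.closedPoint _)
    rw [Scheme.Hom.finrank_pullback_snd, Scheme.fromSpecResidueField_apply] at h2
    rw [h1, h2, Models.homDegree]
    letI := (π.residueFieldMap (genericPoint Y)).hom.toAlgebra
    letI := (X.presheaf.stalkSpecializes (specializes_of_eq e) ≫ π.stalkMap (genericPoint Y)).hom.toAlgebra
    let i : X.functionField →+* X.residueField (π (genericPoint Y)) :=
      (X.residue _).hom.comp (X.presheaf.stalkSpecializes (specializes_of_eq e)).hom
    let j : Y.functionField →+* Y.residueField (genericPoint Y) := (Y.residue _).hom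
    have hi : Function.Bijective i := ⟨i.injective, (X.residue_surjective _).comp
      (ConcreteCategory.bijective_of_isIso (X.presheaf.stalkCongr (Inseparable.of_eq e.symm)).hom).2⟩
    have hj : Function.Bijective j := ⟨j.injective, Y.residue_surjective _⟩
    exact (Algebra.finrank_eq_of_equiv_equiv (RingEquiv.ofBijective i hi) (RingEquiv.ofBijective j hj)
      (RingHom.ext fun a => rfl)).symm
  -- the point and the points over it
  let b := (pointEquivClosedPoint pX).symm ⟨p, hp⟩
  have hb : b.1 (IsLocalRing.closedPoint k) = p :=
    congrArg Subtype.val ((pointEquivClosedPoint pX).apply_symm_apply ⟨p, hp⟩)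
  have hclosed : ∀ q, π q = p → IsClosed ({q} : Set Y) := fun q hq => by
    refine isClosed_of_closure_subset fun z hz => ?_
    have hzq : q ⤳ z := specializes_iff_mem_closure.2 hz
    have h1 : π z = π q := by
      rw [hq]
      exact hp.stableUnderSpecialization (hzq.map π.continuous) hq
    exact GenFibre.eq_of_quasiFiniteAt π (hqf q) h1 (Or.inr hzq)
  let eqv : {s : Spec (CommRingCat.of k) ⟶ Y // s ≫ π = b.1} ≃ {q : Y // π q = p} :=
    { toFun := fun s => ⟨s.1 (IsLocalRing.closedPoint k), by rw [← Scheme.Hom.comp_apply, s.2, hb]⟩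
      invFun := fun q => ⟨((pointEquivClosedPoint pY).symm ⟨q.1, hclosed q.1 q.2⟩).1, by
        have h := ((pointEquivClosedPoint pY).symm ⟨q.1, hclosed q.1 q.2⟩).2
        refine congrArg Subtype.val ((pointEquivClosedPoint pX).injective (a₂ := b)
          (a₁ := ⟨_, by rw [Category.assoc, hπ]; exact h⟩) (Subtype.ext ?_))
        exact ((congrArg π (congrArg Subtype.val
          ((pointEquivClosedPoint pY).apply_symm_apply ⟨q.1, hclosed q.1 q.2⟩))).trans q.2).trans hb.symm⟩
      left_inv := fun s => by
        apply Subtype.ext
        have h := congrArg Subtype.val ((pointEquivClosedPoint pY).symm_apply_apply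
          ⟨s.1, by rw [← hπ, ← Category.assoc, s.2]; exact b.2⟩)
        exact h
      right_inv := fun q => by
        apply Subtype.ext
        have h := congrArg Subtype.val ((pointEquivClosedPoint pY).apply_symm_apply ⟨q.1, hclosed q.1 q.2⟩)
        exact h }
  rw [← Nat.card_congr eqv, ← hdeg p]
  conv_rhs => rw [← hb]
  exact FEtRank.natCard_fiber b.1 (MorphismProperty.Over.mk ⊤ π ⟨‹_›, ‹_›⟩)

end Groth.Agent.GenDegree
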